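import Groth.Agent.VarKleiman.GenericSmooth
import Groth.Agent.GrpSchLib.OrbitDim
import Groth.Prelude.Def_AlgGrp
import Mathlib.AlgebraicGeometry.AlgClosed.Basic

/-!
# Orbit maps of homogeneous spaces are smooth in characteristic zero
-/

noncomputable section

set_option linter.style.haveILetI false
set_option autoImplicit false

universe u

open CategoryTheory MonoidalCategory CartesianMonoidalCategory MonObj GrpObj AlgebraicGeometry TopologicalSpace

namespace Groth.Agent.VarKleiman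

variable {k : Type u} [Field k] {G X : Over (Spec (CommRingCat.of k))} [GrpObj G] (a : AlgGrp.Action G X)

/-- Left translation by a rational point. -/
def transG (σ : 𝟙_ (Over (Spec (CommRingCat.of k))) ⟶ G) : G ⟶ G := (toUnit G ≫ σ) * 𝟙 G

/-- The action of a rational point. -/
def transX (σ : 𝟙_ (Over (Spec (CommRingCat.of k))) ⟶ G) : X ⟶ X := lift (toUnit X ≫ σ) (𝟙 X) ≫ a.act

theorem comp_transG {T : Over (Spec (CommRingCat.of k))} (σ : 𝟙_ (Over (Spec (CommRingCat.of k))) ⟶ G) (g : T ⟶ G) :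
    g ≫ transG σ = (toUnit T ≫ σ) * g := by
  rw [transG, MonObj.comp_mul, Category.comp_id, ← Category.assoc, comp_toUnit]

theorem comp_transX {T : Over (Spec (CommRingCat.of k))} (σ : 𝟙_ (Over (Spec (CommRingCat.of k))) ⟶ G) (x : T ⟶ X) :
    x ≫ transX a σ = lift (toUnit T ≫ σ) x ≫ a.act := by
  rw [transX, ← Category.assoc, comp_lift, Category.comp_id, ← Category.assoc, comp_toUnit]

theorem isIso_transG (σ : 𝟙_ (Over (Spec (CommRingCat.of k))) ⟶ G) : IsIso (transG σ) := by
  refine ⟨transG σ⁻¹, ?_, ?_⟩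
  all_goals
    rw [comp_transG, transG, ← _root_.mul_assoc, ← MonObj.comp_mul]
    simp

theorem isIso_transX (σ : 𝟙_ (Over (Spec (CommRingCat.of k))) ⟶ G) : IsIso (transX a σ) := by
  refine ⟨transX a σ⁻¹, ?_, ?_⟩
  all_goals
    rw [comp_transX, transX, GrpSchLib.act_mul, ← MonObj.comp_mul]
    simp [GrpSchLib.act_one]

theorem comp_orbit {T : Over (Spec (CommRingCat.of k))} (x : 𝟙_ (Over (Spec (CommRingCat.of k))) ⟶ X) (g : T ⟶ G) :
    g ≫ a.orbitMap x = lift g (toUnit T ≫ x) ≫ a.act := by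
  rw [AlgGrp.Action.orbitMap, ← Category.assoc, comp_lift, Category.comp_id, ← Category.assoc, comp_toUnit]

theorem transG_orbit (σ : 𝟙_ (Over (Spec (CommRingCat.of k))) ⟶ G)
    (x : 𝟙_ (Over (Spec (CommRingCat.of k))) ⟶ X) :
    transG σ ≫ a.orbitMap x = a.orbitMap x ≫ transX a σ := by
  rw [comp_orbit, comp_transX, AlgGrp.Action.orbitMap, GrpSchLib.act_mul, transG]

omit [GrpObj G] in
/-- The rational point at a closed point. -/
theorem exists_point [IsAlgClosed k] [LocallyOfFiniteType G.hom] {g : G.left} (hg : IsClosed ({g} : Set G.left)) :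
    ∃ τ : 𝟙_ (Over (Spec (CommRingCat.of k))) ⟶ G, τ.left (IsLocalRing.closedPoint k) = g :=
  ⟨Over.homMk ((pointEquivClosedPoint G.hom).symm ⟨g, hg⟩).1 ((pointEquivClosedPoint G.hom).symm ⟨g, hg⟩).2,
    congrArg Subtype.val ((pointEquivClosedPoint G.hom).apply_symm_apply ⟨g, hg⟩)⟩

theorem smooth_orbit [IsAlgClosed k] [CharZero k] [IsIntegral G.left] [LocallyOfFiniteType G.hom]
    [IsIntegral X.left] [LocallyOfFiniteType X.hom]
    (htrans : ∀ x x' : 𝟙_ (Over (Spec (CommRingCat.of k))) ⟶ X,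
      ∃ σ : 𝟙_ (Over (Spec (CommRingCat.of k))) ⟶ G, lift σ x ≫ a.act = x')
    (x : 𝟙_ (Over (Spec (CommRingCat.of k))) ⟶ X) : Smooth (a.orbitMap x).left := by
  let φ := (a.orbitMap x).left
  haveI : IsLocallyNoetherian X.left := LocallyOfFiniteType.isLocallyNoetherian X.hom
  haveI : LocallyOfFiniteType φ := by
    haveI : LocallyOfFiniteType (φ ≫ X.hom) := by rw [Over.w (a.orbitMap x)]; infer_instance
    exact locallyOfFiniteType_of_comp φ X.hom
  haveI : JacobsonSpace X.left := LocallyOfFiniteType.jacobsonSpace X.hom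
  haveI : JacobsonSpace G.left := LocallyOfFiniteType.jacobsonSpace G.hom
  have hη : φ (genericPoint G.left) = genericPoint X.left := by
    have hd : DenseRange φ := by
      refine Dense.mono (s₁ := closedPoints X.left) ?_ (dense_iff_closure_eq.2 closure_closedPoints)
      intro p hp
      obtain ⟨τ, hτ⟩ := exists_point (G := X) (g := p) hp
      obtain ⟨σ, hσ⟩ := htrans x τ
      refine ⟨σ.left (IsLocalRing.closedPoint k), ?_⟩
      have hσ' : σ ≫ a.orbitMap x = τ := by
        rw [comp_orbit, toUnit_unit, Category.id_comp, hσ]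
      rw [← hτ, ← hσ']
      rfl
    have h : IsGenericPoint (φ (genericPoint G.left)) (Set.univ : Set X.left) := by
      have h := (genericPoint_spec G.left).image φ.continuous
      rwa [Set.image_univ, hd.closure_eq] at h
    exact h.eq (genericPoint_spec X.left)
  have hgen := JacDom.genericPoint_mem_smoothLocus X.hom φ hη
  obtain ⟨g₀, hg₀, hg₀c⟩ := nonempty_inter_closedPoints (Z := (φ.smoothLocus : Set G.left)) ⟨_, hgen⟩
    φ.smoothLocus.isOpen.isLocallyClosed
  rw [← Scheme.Hom.smoothLocus_eq_top_iff, ← top_le_iff]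
  by_contra hne
  obtain ⟨g, hg, hgc⟩ := nonempty_inter_closedPoints (Z := (φ.smoothLocus : Set G.left)ᶜ)
    (by
      rw [Set.nonempty_compl]
      exact fun h => hne fun z _ => h.ge (Set.mem_univ z))
    φ.smoothLocus.isOpen.isClosed_compl.isLocallyClosed
  obtain ⟨τ₀, hτ₀⟩ := exists_point hg₀c
  obtain ⟨τ, hτ⟩ := exists_point hgc
  let σ := τ₀ * τ⁻¹
  have hmove : τ ≫ transG σ = τ₀ := by
    rw [comp_transG, toUnit_unit, Category.id_comp]
    simp [σ, _root_.mul_assoc]
  haveI := isIso_transG σ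
  haveI := isIso_transX a σ
  haveI : IsIso (transG σ).left := inferInstanceAs (IsIso ((Over.forget _).map (transG σ)))
  haveI : IsIso (transX a σ).left := inferInstanceAs (IsIso ((Over.forget _).map (transX a σ)))
  let t := (transG σ).left
  let U : G.left.Opens := t ⁻¹ᵁ φ.smoothLocus
  haveI : Smooth (φ.smoothLocus.ι ≫ φ) := by
    rw [← Scheme.Hom.smoothLocus_eq_top_iff, ← Scheme.Hom.preimage_smoothLocus_eq, Scheme.Opens.ι_preimage_self]
  haveI h1 : Smooth ((t ∣_ φ.smoothLocus) ≫ φ.smoothLocus.ι ≫ φ) := inferInstance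
  have h2 : (t ∣_ φ.smoothLocus) ≫ φ.smoothLocus.ι ≫ φ = (U.ι ≫ φ) ≫ (transX a σ).left := by
    rw [morphismRestrict_ι_assoc, Category.assoc, ← Over.comp_left, ← Over.comp_left, transG_orbit]
  have h3 : Smooth (U.ι ≫ φ) := by
    have h4 : Smooth ((U.ι ≫ φ) ≫ (transX a σ).left) := h2 ▸ h1
    rw [show U.ι ≫ φ = ((U.ι ≫ φ) ≫ (transX a σ).left) ≫ inv (transX a σ).left by simp]
    infer_instance
  refine hg ?_
  have hgU : g ∈ U := by
    show t g ∈ φ.smoothLocus
    have : t g = g₀ := by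
      rw [← hτ, ← hτ₀, ← hmove]
      rfl
    rw [this]
    exact hg₀
  have h5 : (⟨g, hgU⟩ : U.toScheme) ∈ (U.ι ≫ φ).smoothLocus := by
    haveI := h3
    rw [Scheme.Hom.smoothLocus_eq_top]; trivial
  rwa [← Scheme.Hom.preimage_smoothLocus_eq] at h5

end Groth.Agent.VarKleiman
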