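import Groth.Agent.VarKleiman.Orbit
import Groth.Agent.GrpSchLib.Cartier
import Groth.Agent.FibDim.RelDim
import Groth.Agent.FibDim.BaseField

/-!
# Kleiman transversality
-/

noncomputable section

set_option linter.style.haveILetI false
set_option autoImplicit false
set_option maxHeartbeats 1000000

universe u

open CategoryTheory CategoryTheory.Limits MonoidalCategory CartesianMonoidalCategory MonObj GrpObj AlgebraicGeometry TopologicalSpace

namespace Groth.Agent.VarKleiman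

theorem isReduced_of_regular {W : Scheme.{u}} (h : ∀ w : W, IsRegularLocalRing (W.presheaf.stalk w)) :
    IsReduced W := by
  haveI : ∀ w : W, _root_.IsReduced (W.presheaf.stalk w) := fun w => by
    haveI := h w
    haveI : IsDomain (W.presheaf.stalk w) := RegLoc6.isDomain_of_isRegularLocalRing _
    infer_instance
  exact isReduced_of_isReduced_stalk W

theorem regular_of_smooth {k : Type u} [Field k] {W : Scheme.{u}} (p : W ⟶ Spec (CommRingCat.of k))
    [Smooth p] (w : W) : IsRegularLocalRing (W.presheaf.stalk w) := by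
  refine SmoothReg.isRegularLocalRing_stalk_of_mem_smoothLocus p ?_
  rw [Scheme.Hom.smoothLocus_eq_top]
  trivial

/-- Smooth points are transported along a symmetry. -/
theorem mem_smoothLocus_of_symm {P X : Scheme.{u}} (h : P ⟶ X) [LocallyOfFinitePresentation h]
    (t : P ⟶ P) [IsIso t] (A : X ⟶ X) [IsIso A] (e : t ≫ h = h ≫ A) {p : P} (hp : t p ∈ h.smoothLocus) :
    p ∈ h.smoothLocus := by
  let U : P.Opens := t ⁻¹ᵁ h.smoothLocus
  haveI : Smooth (h.smoothLocus.ι ≫ h) := by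
    rw [← Scheme.Hom.smoothLocus_eq_top_iff, ← Scheme.Hom.preimage_smoothLocus_eq, Scheme.Opens.ι_preimage_self]
  haveI h1 : Smooth ((t ∣_ h.smoothLocus) ≫ h.smoothLocus.ι ≫ h) := inferInstance
  have h2 : (t ∣_ h.smoothLocus) ≫ h.smoothLocus.ι ≫ h = (U.ι ≫ h) ≫ A := by
    rw [morphismRestrict_ι_assoc, Category.assoc, e]
  have h3 : Smooth (U.ι ≫ h) := by
    have h4 : Smooth ((U.ι ≫ h) ≫ A) := h2 ▸ h1
    rw [show U.ι ≫ h = ((U.ι ≫ h) ≫ A) ≫ inv A by simp]
    infer_instance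
  have h5 : (⟨p, hp⟩ : U.toScheme) ∈ (U.ι ≫ h).smoothLocus := by
    haveI := h3
    rw [Scheme.Hom.smoothLocus_eq_top]; trivial
  rwa [← Scheme.Hom.preimage_smoothLocus_eq] at h5

theorem preimage_le_smoothLocus {P X : Scheme.{u}} (h : P ⟶ X) [LocallyOfFinitePresentation h]
    (V : X.Opens) [Smooth (h ∣_ V)] : h ⁻¹ᵁ V ≤ h.smoothLocus := fun p hp => by
  haveI : Smooth ((h ⁻¹ᵁ V).ι ≫ h) := by rw [← morphismRestrict_ι]; infer_instance
  have h5 : (⟨p, hp⟩ : (h ⁻¹ᵁ V).toScheme) ∈ ((h ⁻¹ᵁ V).ι ≫ h).smoothLocus := by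
    rw [Scheme.Hom.smoothLocus_eq_top]; trivial
  rwa [← Scheme.Hom.preimage_smoothLocus_eq] at h5

section Smooth

variable {k : Type u} [Field k] [IsAlgClosed k] [CharZero k]
  {G X : Over (Spec (CommRingCat.of k))} [GrpObj G] (a : AlgGrp.Action G X)
  [IsIntegral G.left] [LocallyOfFiniteType G.hom] [QuasiCompact G.hom]
  [IsIntegral X.left] [LocallyOfFiniteType X.hom]
  {Y : Over (Spec (CommRingCat.of k))} [QuasiCompact Y.hom] [Smooth Y.hom] (φ : Y ⟶ X)

/-- The spreading map. -/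
abbrev spread : G ⊗ Y ⟶ X := (G ◁ φ) ≫ a.act

theorem smooth_prod : Smooth (G ⊗ Y).hom := by
  haveI := GrpSchLib.smooth_of_isReduced_of_isAlgClosed G
  show Smooth (pullback.fst G.hom Y.hom ≫ G.hom)
  infer_instance

include a in
/-- The spreading map of a transitive action is smooth. -/
theorem smooth_spread
    (htrans : ∀ x x' : 𝟙_ (Over (Spec (CommRingCat.of k))) ⟶ X,
      ∃ σ : 𝟙_ (Over (Spec (CommRingCat.of k))) ⟶ G, lift σ x ≫ a.act = x') :
    Smooth (spread a φ).left := by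
  haveI := smooth_prod (G := G) (Y := Y)
  let h := (spread a φ).left
  haveI : IsLocallyNoetherian X.left := LocallyOfFiniteType.isLocallyNoetherian X.hom
  haveI : LocallyOfFiniteType h := by
    haveI : LocallyOfFiniteType (h ≫ X.hom) := by rw [Over.w (spread a φ)]; infer_instance
    exact locallyOfFiniteType_of_comp h X.hom
  haveI : QuasiCompact (G ⊗ Y).hom := by
    show QuasiCompact (pullback.fst G.hom Y.hom ≫ G.hom)
    infer_instance
  haveI := isReduced_of_regular (regular_of_smooth (G ⊗ Y).hom)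
  obtain ⟨V, hV, hsm⟩ := exists_open_smooth (G ⊗ Y).hom X.hom h (Over.w (spread a φ))
    (regular_of_smooth (G ⊗ Y).hom)
  haveI : JacobsonSpace X.left := LocallyOfFiniteType.jacobsonSpace X.hom
  haveI : JacobsonSpace (G ⊗ Y).left := LocallyOfFiniteType.jacobsonSpace (G ⊗ Y).hom
  obtain ⟨x₀, hx₀, hx₀c⟩ := nonempty_inter_closedPoints hV V.isOpen.isLocallyClosed
  obtain ⟨x', hx'⟩ := exists_point (G := X) hx₀c
  rw [← Scheme.Hom.smoothLocus_eq_top_iff, ← top_le_iff]
  by_contra hne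
  obtain ⟨p, hp, hpc⟩ := nonempty_inter_closedPoints (Z := (h.smoothLocus : Set (G ⊗ Y).left)ᶜ)
    (by
      rw [Set.nonempty_compl]
      exact fun e => hne fun z _ => e.ge (Set.mem_univ z))
    h.smoothLocus.isOpen.isClosed_compl.isLocallyClosed
  obtain ⟨τ, hτ⟩ := exists_point (G := G ⊗ Y) hpc
  obtain ⟨σ, hσ⟩ := htrans (τ ≫ spread a φ) x'
  haveI := isIso_transG σ
  haveI := isIso_transX a σ
  haveI : IsIso (transG σ ▷ Y).left :=
    inferInstanceAs (IsIso ((Over.forget _).map ((tensorRight Y).map (transG σ))))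
  haveI : IsIso (transX a σ).left := inferInstanceAs (IsIso ((Over.forget _).map (transX a σ)))
  have e : (transG σ ▷ Y) ≫ spread a φ = spread a φ ≫ transX a σ := by
    have hl : spread a φ = lift (fst G Y) (snd G Y ≫ φ) ≫ a.act := by
      rw [spread]
      congr 1
    rw [comp_transX, hl, ← Category.assoc, comp_lift, whiskerRight_fst, whiskerRight_snd_assoc,
      comp_transG, GrpSchLib.act_mul]
  refine hp (mem_smoothLocus_of_symm h (transG σ ▷ Y).left (transX a σ).left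
    (by rw [← Over.comp_left, e]; rfl) (preimage_le_smoothLocus h V ?_))
  show h ((transG σ ▷ Y).left p) ∈ V
  have hx : τ ≫ (transG σ ▷ Y) ≫ spread a φ = x' := by
    rw [e, ← Category.assoc, comp_transX, toUnit_unit, Category.id_comp, hσ]
  have : h ((transG σ ▷ Y).left p) = x₀ := by
    rw [← hτ, ← hx', ← hx]
    rfl
  rw [this]
  exact hx₀

end Smooth

section Dim

theorem exists_fd {X Y : Scheme.{u}} (f : X ⟶ Y) [LocallyOfFiniteType f] (x : X) :
    ∃ d : ℕ, FlatMor.fibreDimAt f x = ((d : ℕ∞) : WithBot ℕ∞) :=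
  let ⟨_, _, _, _, h⟩ := FibDim.exists_fibMax_generization f x
  ⟨_, h⟩

theorem fd_preimmersion {X Y : Scheme.{u}} (f : X ⟶ Y) [LocallyOfFiniteType f] [IsPreimmersion f] (x : X) :
    FlatMor.fibreDimAt f x = 0 := by
  obtain ⟨z, -, -, -, h⟩ := FibDim.exists_fibMax_generization f x
  have h0 := FibDim.rd_eq_rdeg f z
  rw [VarDim.rdeg_preimmersion, Nat.cast_eq_zero] at h0
  rw [h, h0]
  rfl

/-- Local fibre dimension over a field of an irreducible scheme. -/
theorem fd_eq_dim {k : Type u} [Field k] {X : Scheme.{u}} (p : X ⟶ Spec (CommRingCat.of k))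
    [LocallyOfFiniteType p] [IrreducibleSpace X] (x : X) :
    FlatMor.fibreDimAt p x = topologicalKrullDim X := by
  haveI : Subsingleton ↥(Spec (CommRingCat.of k)) := FibDim.subsingleton_spec_field k
  obtain ⟨z, hz, -, hmax, h⟩ := FibDim.exists_fibMax_generization p x
  obtain rfl := hmax _ (genericPoint_specializes z) (Subsingleton.elim _ _)
  rw [h, FibDim.topologicalKrullDim_eq_iSup_rd p]
  refine le_antisymm (le_iSup_of_le (genericPoint X) le_rfl) (iSup_le fun y => ?_)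
  obtain ⟨z', hz', -, hmax', h'⟩ := FibDim.exists_fibMax_generization p y
  obtain rfl := hmax' _ (genericPoint_specializes z') (Subsingleton.elim _ _)
  rw [← h']
  exact FibDim.rd_le_fibreDimAt p (specializes_refl y) rfl

theorem dim_eq_of_fd {k : Type u} [Field k] {X : Scheme.{u}} (p : X ⟶ Spec (CommRingCat.of k))
    [LocallyOfFiniteType p] {d : ℕ} (hd : ∀ x, FlatMor.fibreDimAt p x = ((d : ℕ∞) : WithBot ℕ∞))
    [Nonempty X] : topologicalKrullDim X = d := by
  haveI : Subsingleton ↥(Spec (CommRingCat.of k)) := FibDim.subsingleton_spec_field k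
  obtain ⟨x⟩ := ‹Nonempty X›
  rw [FibDim.topologicalKrullDim_eq_iSup_rd p]
  obtain ⟨z, -, -, hmax, h⟩ := FibDim.exists_fibMax_generization p x
  refine le_antisymm (iSup_le fun y => ?_) (le_iSup_of_le z ?_)
  · have h1 := FibDim.rd_le_fibreDimAt p (x := y) (z := y) (specializes_refl y) rfl
    rw [hd] at h1
    exact h1
  · rw [← h, hd]
    rfl

theorem flat_comp_fd {X Y Z : Scheme.{u}} (f : X ⟶ Y) (g : Y ⟶ Z) [LocallyOfFiniteType f]
    [LocallyOfFiniteType g] [Flat f] {fg : X ⟶ Z} (e : f ≫ g = fg) (x : X) :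
    FlatMor.fibreDimAt fg x = FlatMor.fibreDimAt f x + FlatMor.fibreDimAt g (f x) := by
  subst e
  exact FibDim.fibreDimAt_comp_of_flat f g x (Flat.stalkMap f x)

end Dim

section Kleiman

variable {k : Type u} [Field k] [IsAlgClosed k] [CharZero k]
  {G X : Over (Spec (CommRingCat.of k))} [GrpObj G] (a : AlgGrp.Action G X)
  [IsIntegral G.left] [IsSeparated G.hom] [LocallyOfFiniteType G.hom] [QuasiCompact G.hom]
  [IsIntegral X.left] [IsSeparated X.hom] [LocallyOfFiniteType X.hom] [QuasiCompact X.hom]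

theorem kleiman
    (htrans : ∀ x x' : 𝟙_ (Over (Spec (CommRingCat.of k))) ⟶ X,
      ∃ σ : 𝟙_ (Over (Spec (CommRingCat.of k))) ⟶ G, lift σ x ≫ a.act = x')
    {Y Z : Scheme.{u}} (f : Y ⟶ X.left) (g : Z ⟶ X.left)
    [IsIntegral Y] [QuasiCompact (f ≫ X.hom)] [Smooth (f ≫ X.hom)]
    [IsIntegral Z] [QuasiCompact (g ≫ X.hom)] [Smooth (g ≫ X.hom)]
    (n r s : ℕ) (hn : topologicalKrullDim ↥X.left = n) (hr : topologicalKrullDim ↥Y = r)
    (hs : topologicalKrullDim ↥Z = s) :
    ∃ V : G.left.Opens, (V : Set ↥G.left).Nonempty ∧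
      ∀ σ : 𝟙_ (Over (Spec (CommRingCat.of k))) ⟶ G, Set.range σ.left.base ⊆ (V : Set ↥G.left) →
        ∀ fσ : Y ⟶ X.left,
          fσ = (lift (toUnit (Over.mk (f ≫ X.hom)) ≫ σ) (Over.homMk f) ≫ a.act).left →
          Smooth (pullback.fst fσ g ≫ f ≫ X.hom) ∧
            (IsEmpty ↥(pullback fσ g) ∨
              (n ≤ r + s ∧ topologicalKrullDim ↥(pullback fσ g) = ((r + s - n : ℕ) : WithBot ℕ∞))) := by
  let Yo := Over.mk (f ≫ X.hom)
  haveI : QuasiCompact Yo.hom := ‹QuasiCompact (f ≫ X.hom)›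
  haveI : Smooth Yo.hom := ‹Smooth (f ≫ X.hom)›
  let φ : Yo ⟶ X := Over.homMk f
  let h := (spread a φ).left
  haveI : Smooth h := smooth_spread a φ htrans
  let qY : Y ⟶ Spec (CommRingCat.of k) := f ≫ X.hom
  let prG : (G ⊗ Yo).left ⟶ G.left := pullback.fst G.hom Yo.hom
  haveI : Smooth prG := inferInstanceAs (Smooth (pullback.fst G.hom Yo.hom))
  have hP : prG ≫ G.hom = (G ⊗ Yo).hom := rfl
  haveI : QuasiCompact (G ⊗ Yo).hom := by
    show QuasiCompact (pullback.fst G.hom Yo.hom ≫ G.hom)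
    infer_instance
  haveI : QuasiCompact h := by
    haveI : QuasiCompact (h ≫ X.hom) := by rw [Over.w (spread a φ)]; infer_instance
    exact QuasiCompact.of_comp h X.hom
  let pr2 : pullback h g ⟶ Z := pullback.snd h g
  let qW : pullback h g ⟶ Spec (CommRingCat.of k) := pr2 ≫ g ≫ X.hom
  haveI : Smooth qW := inferInstanceAs (Smooth (pullback.snd h g ≫ g ≫ X.hom))
  haveI : QuasiCompact qW := inferInstanceAs (QuasiCompact (pullback.snd h g ≫ g ≫ X.hom))
  let q : pullback h g ⟶ G.left := pullback.fst h g ≫ prG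
  have hq : q ≫ G.hom = qW := by
    show (pullback.fst h g ≫ prG) ≫ G.hom = pullback.snd h g ≫ g ≫ X.hom
    rw [← pullback.condition_assoc, Category.assoc, hP, Over.w (spread a φ)]
  haveI : LocallyOfFiniteType q := by
    haveI : LocallyOfFiniteType (q ≫ G.hom) := by rw [hq]; infer_instance
    exact locallyOfFiniteType_of_comp q G.hom
  haveI := isReduced_of_regular (regular_of_smooth qW)
  obtain ⟨V, hV, hsm⟩ := exists_open_smooth qW G.hom q hq (regular_of_smooth qW)
  refine ⟨V, hV, fun σ hσ fσ hfσ => ?_⟩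
  let i : Y ⟶ (G ⊗ Yo).left := (lift (toUnit Yo ≫ σ) (𝟙 Yo)).left
  have hi : fσ = i ≫ h := by
    rw [hfσ]
    show _ = (lift (toUnit Yo ≫ σ) (𝟙 Yo) ≫ (G ◁ φ) ≫ a.act).left
    rw [← Category.assoc, lift_whiskerLeft, Category.id_comp]
  have hσk : σ.left ≫ G.hom = 𝟙 _ := Over.w σ
  have hi1 : i ≫ prG = qY ≫ σ.left := by
    show (lift (toUnit Yo ≫ σ) (𝟙 Yo) ≫ fst G Yo).left = _
    rw [lift_fst]
    rfl
  have sq1 : IsPullback i qY prG σ.left := by
    refine IsPullback.of_right (h₁₂ := pullback.snd G.hom Yo.hom) (v₁₃ := Yo.hom) (h₂₂ := G.hom) ?_ hi1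
      (IsPullback.of_hasPullback G.hom Yo.hom).flip
    rw [show i ≫ pullback.snd G.hom Yo.hom = 𝟙 _ from by
      show (lift (toUnit Yo ≫ σ) (𝟙 Yo) ≫ snd G Yo).left = _
      rw [lift_snd]
      rfl, hσk]
    exact IsPullback.of_horiz_isIso (fst := 𝟙 Y) (snd := qY) (f := qY)
      (g := 𝟙 (Spec (CommRingCat.of k))) ⟨by simp⟩
  let qF : pullback fσ g ⟶ Spec (CommRingCat.of k) := pullback.fst fσ g ≫ qY
  let j : pullback fσ g ⟶ pullback h g :=
    pullback.lift (pullback.fst fσ g ≫ i) (pullback.snd fσ g)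
      (by rw [Category.assoc, ← hi, pullback.condition])
  have sq2 : IsPullback j (pullback.fst fσ g) (pullback.fst h g) i := by
    refine IsPullback.of_right (h₁₂ := pullback.snd h g) (v₁₃ := g) (h₂₂ := h) ?_ (pullback.lift_fst _ _ _)
      (IsPullback.of_hasPullback h g).flip
    rw [show j ≫ pullback.snd h g = pullback.snd fσ g from pullback.lift_snd _ _ _, ← hi]
    exact (IsPullback.of_hasPullback fσ g).flip
  have sq3 : IsPullback j qF q σ.left := sq2.paste_vert sq1
  have hjV : ∀ w, q (j w) ∈ V := fun w => by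
    rw [← Scheme.Hom.comp_apply, sq3.w]
    exact hσ ⟨_, rfl⟩
  haveI hsm' : Smooth ((q ⁻¹ᵁ V).ι ≫ q) := by rw [← morphismRestrict_ι]; infer_instance
  have hFsm : Smooth qF := by
    let σV : (𝟙_ (Over (Spec (CommRingCat.of k)))).left ⟶ V.toScheme :=
      IsOpenImmersion.lift V.ι σ.left (by rw [Scheme.Opens.range_ι]; exact hσ)
    let j' : pullback fσ g ⟶ (q ⁻¹ᵁ V).toScheme :=
      IsOpenImmersion.lift (q ⁻¹ᵁ V).ι j (by rw [Scheme.Opens.range_ι]; rintro _ ⟨w, rfl⟩; exact hjV w)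
    have sq4 : IsPullback j' qF (q ∣_ V) σV := by
      refine IsPullback.of_right (h₁₂ := (q ⁻¹ᵁ V).ι) (v₁₃ := q) (h₂₂ := V.ι) ?_ ?_
        (isPullback_morphismRestrict q V).flip
      · rw [IsOpenImmersion.lift_fac, IsOpenImmersion.lift_fac]; exact sq3
      · rw [← cancel_mono V.ι, Category.assoc, morphismRestrict_ι, Category.assoc,
          IsOpenImmersion.lift_fac, ← Category.assoc, IsOpenImmersion.lift_fac]
        exact sq3.w
    exact MorphismProperty.of_isPullback (P := @Smooth) sq4 inferInstance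
  refine ⟨hFsm, ?_⟩
  rcases isEmpty_or_nonempty ↥(pullback fσ g) with hE | hne
  · exact Or.inl hE
  refine Or.inr ?_
  -- the dimension count
  have key : ∀ w, ∃ d : ℕ, r + s = d + n ∧ FlatMor.fibreDimAt qF w = ((d : ℕ∞) : WithBot ℕ∞) := fun w => by
    obtain ⟨d, hd⟩ := exists_fd q (j w)
    obtain ⟨e, he⟩ := exists_fd h (pullback.fst h g (j w))
    obtain ⟨gd, hgd⟩ := exists_fd G.hom (q (j w))
    refine ⟨d, ?_, by rw [FibDim.fibreDimAt_baseChange sq3 w, hd]⟩
    have e1 := flat_comp_fd prG G.hom hP (pullback.fst h g (j w))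
    rw [flat_comp_fd h X.hom (Over.w (spread a φ)) _, fd_eq_dim X.hom, hn, he,
      show prG (pullback.fst h g (j w)) = q (j w) from (Scheme.Hom.comp_apply _ _ _).symm, hgd,
      FibDim.fibreDimAt_baseChange (p := pullback.snd G.hom Yo.hom) (q := prG) (f := Yo.hom)
        (IsPullback.of_hasPullback G.hom Yo.hom).flip] at e1
    haveI : IsIntegral Yo.left := ‹IsIntegral Y›
    rw [fd_eq_dim Yo.hom, show topologicalKrullDim ↥Yo.left = r from hr] at e1
    have e2 := flat_comp_fd pr2 (g ≫ X.hom) (fg := qW) rfl (j w)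
    rw [FibDim.fibreDimAt_baseChange (p := pullback.fst h g) (q := pr2) (f := h)
      (IsPullback.of_hasPullback h g) (j w), he, fd_eq_dim (g ≫ X.hom), hs] at e2
    let wV : (q ⁻¹ᵁ V).toScheme := ⟨j w, hjV w⟩
    have e3 := flat_comp_fd (q ⁻¹ᵁ V).ι qW rfl wV
    have e4 := flat_comp_fd ((q ⁻¹ᵁ V).ι ≫ q) G.hom (fg := (q ⁻¹ᵁ V).ι ≫ qW)
      (by rw [Category.assoc, hq]) wV
    have e5 := flat_comp_fd (q ⁻¹ᵁ V).ι q rfl wV
    rw [fd_preimmersion (q ⁻¹ᵁ V).ι, zero_add, show (q ⁻¹ᵁ V).ι wV = j w from rfl] at e3 e5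
    rw [e3, e5, hd, show ((q ⁻¹ᵁ V).ι ≫ q) wV = q (j w) from rfl, hgd, e2] at e4
    have h1 : e + n = r + gd := by exact_mod_cast e1
    have h2 : e + s = d + gd := by exact_mod_cast e4
    omega
  haveI := hne
  obtain ⟨w₀⟩ := id hne
  obtain ⟨d₀, hd₀, -⟩ := key w₀
  refine ⟨by omega, ?_⟩
  haveI : Smooth qF := hFsm
  refine dim_eq_of_fd qF (d := r + s - n) fun w => ?_
  obtain ⟨d, hd, hd'⟩ := key w
  rw [hd', show r + s - n = d by omega]

end Kleiman

end Groth.Agent.VarKleiman
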