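import Groth.Agent.H23.RedSub
import Groth.Agent.SmoothReg.Field
import Groth.Agent.VarDim.Fibre
import Groth.Agent.S1561
import Groth.Agent.JacDom.Dominant
import Mathlib.AlgebraicGeometry.Morphisms.Smooth

/-!
# Generic smoothness in characteristic zero
-/

noncomputable section

set_option linter.style.haveILetI false
set_option autoImplicit false

universe u

open CategoryTheory AlgebraicGeometry TopologicalSpace

namespace Groth.Agent.VarKleiman

/-- A finite type algebra over a domain with perfect fraction field is smooth at the regular primes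
over the generic point. -/
theorem isSmoothAt_of_regular {R A : Type u} [CommRing R] [IsDomain R] [CommRing A] [Algebra R A]
    [Algebra.FiniteType R A] [PerfectField (FractionRing R)] (q : Ideal A) [q.IsPrime]
    (hq : q.comap (algebraMap R A) = ⊥) (hreg : IsRegularLocalRing (Localization.AtPrime q)) :
    Algebra.IsSmoothAt R q := by
  let K := FractionRing R
  let B := TensorProduct R K A
  letI : Algebra A B := Algebra.TensorProduct.rightAlgebra
  let M := Algebra.algebraMapSubmonoid A (nonZeroDivisors R)
  haveI : IsLocalization M B := IsLocalization.tensorRight (S := A) (A := K) (nonZeroDivisors R)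
  have hdisj : Disjoint (M : Set A) (q : Set A) := Set.disjoint_left.2 fun a ha haq => by
    obtain ⟨r, hr, rfl⟩ := ha
    have h : r ∈ q.comap (algebraMap R A) := haq
    rw [hq] at h
    exact nonZeroDivisors.ne_zero hr h
  let p : Ideal B := q.map (algebraMap A B)
  haveI hp : p.IsPrime := IsLocalization.isPrime_of_isPrime_disjoint M B q inferInstance hdisj
  have hcomap : p.comap (algebraMap A B) = q :=
    IsLocalization.comap_map_of_isPrime_disjoint M B inferInstance hdisj
  haveI : IsScalarTower R A B := IsScalarTower.of_algebraMap_eq fun r => by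
    show algebraMap R B r = Algebra.TensorProduct.includeRight (algebraMap R A r)
    exact (AlgHom.commutes _ r).symm
  haveI : IsScalarTower R A (Localization.AtPrime p) := IsScalarTower.of_algebraMap_eq fun r => by
    rw [IsScalarTower.algebraMap_apply R B (Localization.AtPrime p), IsScalarTower.algebraMap_apply R A B,
      ← IsScalarTower.algebraMap_apply A B]
  haveI : IsLocalization.AtPrime (Localization.AtPrime p) q := by
    have h := IsLocalization.isLocalization_isLocalization_atPrime_isLocalization (S := B) M (T := Localization.AtPrime p) p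
    simpa only [hcomap] using h
  let e : Localization.AtPrime q ≃ₐ[A] Localization.AtPrime p :=
    IsLocalization.algEquiv q.primeCompl _ _
  haveI : IsRegularLocalRing (Localization.AtPrime p) :=
    IsRegularLocalRing.of_ringEquiv e.toRingEquiv
  haveI : Algebra.FormallySmooth K (Localization.AtPrime p) :=
    (SmoothReg.isSmoothAt_iff_isRegularLocalRing p).2 inferInstance
  haveI : Algebra.FormallySmooth R K := Algebra.FormallySmooth.of_isLocalization (nonZeroDivisors R)
  haveI : Algebra.FormallySmooth R (Localization.AtPrime p) := Algebra.FormallySmooth.comp R K _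
  exact (Algebra.FormallySmooth.iff_of_equiv (e.restrictScalars R)).2 ‹_›

/-- Over a perfect generic point, a point with regular stalk in the generic fibre is smooth. -/
theorem mem_smoothLocus_of_generic {k : Type u} [Field k] [CharZero k] {X Y : Scheme.{u}}
    (qY : Y ⟶ Spec (CommRingCat.of k)) [IsIntegral Y] (f : X ⟶ Y) [LocallyOfFinitePresentation f]
    {x : X} (hx : f x = genericPoint Y) (hreg : IsRegularLocalRing (X.presheaf.stalk x)) :
    x ∈ f.smoothLocus := by
  obtain ⟨U, hU, hηU, -⟩ := exists_isAffineOpen_mem_and_subset (x := genericPoint Y) (U := (⊤ : Y.Opens))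
    (by simp)
  obtain ⟨V, hV, hxV, hVU⟩ := exists_isAffineOpen_mem_and_subset (x := x) (U := f ⁻¹ᵁ U)
    (show f x ∈ U by rw [hx]; exact hηU)
  replace hVU : V ≤ f ⁻¹ᵁ U := hVU
  haveI : Nonempty U := ⟨⟨_, hηU⟩⟩
  letI := (f.appLE U V hVU).hom.toAlgebra
  haveI : Algebra.FiniteType Γ(Y, U) Γ(X, V) := f.finiteType_appLE hU hV hVU
  let K := FractionRing Γ(Y, U)
  haveI : CharZero K := by
    have φ : k →+* K := (algebraMap Γ(Y, U) K).comp ((qY.appLE ⊤ U (by simp)).hom.comp
      (Scheme.ΓSpecIso (CommRingCat.of k)).inv.hom)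
    exact charZero_of_injective_ringHom φ.injective
  rw [Scheme.Hom.mem_smoothLocus, formallySmooth_stalkMap_iff U hU V hV hVU hxV]
  refine isSmoothAt_of_regular _ ?_ ?_
  · have h1 : hU.primeIdealOf ⟨f x, hVU hxV⟩ = Spec.map (f.appLE U V hVU) (hV.primeIdealOf ⟨x, hxV⟩) :=
      (IsAffineOpen.comap_primeIdealOf_appLE U hU V hV hVU hxV).symm
    have h2 : (hU.primeIdealOf ⟨f x, hVU hxV⟩).asIdeal = ⊥ := by
      rw [show (⟨f x, hVU hxV⟩ : U) = ⟨genericPoint Y, hηU⟩ from Subtype.ext hx,
        hU.primeIdealOf_genericPoint, genericPoint_eq_bot_of_affine]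
      rfl
    rw [h1] at h2
    exact h2
  · letI := X.presheaf.algebra_section_stalk ⟨x, hxV⟩
    haveI := hV.isLocalization_stalk ⟨x, hxV⟩
    exact IsRegularLocalRing.of_ringEquiv
      (IsLocalization.algEquiv (hV.primeIdealOf ⟨x, hxV⟩).asIdeal.primeCompl (X.presheaf.stalk x)
        (Localization.AtPrime _)).toRingEquiv

/-- Generic smoothness. -/
theorem exists_open_smooth {k : Type u} [Field k] [CharZero k] {X Y : Scheme.{u}}
    (qX : X ⟶ Spec (CommRingCat.of k)) (qY : Y ⟶ Spec (CommRingCat.of k))
    [LocallyOfFiniteType qX] [QuasiCompact qX] [LocallyOfFiniteType qY] [IsIntegral Y] [IsReduced X]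
    (f : X ⟶ Y) (hf : f ≫ qY = qX) (hreg : ∀ x : X, IsRegularLocalRing (X.presheaf.stalk x)) :
    ∃ V : Y.Opens, (V : Set Y).Nonempty ∧ Smooth (f ∣_ V) := by
  haveI : IsLocallyNoetherian Y := LocallyOfFiniteType.isLocallyNoetherian qY
  haveI : LocallyOfFiniteType f := by
    haveI : LocallyOfFiniteType (f ≫ qY) := hf ▸ inferInstance
    exact locallyOfFiniteType_of_comp f qY
  haveI : CompactSpace X := QuasiCompact.compactSpace_of_compactSpace qX
  let S : Closeds X := ⟨(f.smoothLocus : Set X)ᶜ, f.smoothLocus.isOpen.isClosed_compl⟩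
  let ι := (Scheme.IdealSheafData.vanishingIdeal S).subschemeι
  have hrange : Set.range ι = (S : Set X) := H23.RedSub.range_vanishingIdeal S
  haveI : CompactSpace (Scheme.IdealSheafData.vanishingIdeal S).subscheme :=
    ι.isClosedEmbedding.compactSpace
  have hη : genericPoint Y ∉ closure (Set.range (ι ≫ f)) := fun h => by
    obtain ⟨z, hz⟩ := VarDim.mem_range_of_maximal (ι ≫ qX) (ι ≫ f) h
      (fun y hy => (hy.antisymm (genericPoint_specializes y)).eq)
    rw [Scheme.Hom.comp_apply] at hz
    have hS : ι z ∈ (S : Set X) := hrange ▸ ⟨z, rfl⟩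
    exact hS (mem_smoothLocus_of_generic qY f hz (hreg _))
  let V : Y.Opens := ⟨(closure (Set.range (ι ≫ f)))ᶜ, isClosed_closure.isOpen_compl⟩
  refine ⟨V, ⟨_, hη⟩, ?_⟩
  have hle : f ⁻¹ᵁ V ≤ f.smoothLocus := fun x hx => by
    by_contra h
    obtain ⟨z, rfl⟩ : x ∈ Set.range ι := hrange ▸ h
    exact hx (subset_closure ⟨z, rfl⟩)
  have h1 : Smooth ((f ∣_ V) ≫ V.ι) := by
    rw [morphismRestrict_ι, ← Scheme.Hom.smoothLocus_eq_top_iff, ← Scheme.Hom.preimage_smoothLocus_eq]
    exact top_le_iff.1 fun z _ => hle z.2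
  exact MorphismProperty.of_isPullback (P := @Smooth)
    (CategoryTheory.IsPullback.of_vert_isIso_mono (fst := f ∣_ V) (snd := 𝟙 _) (f := V.ι) (g := (f ∣_ V) ≫ V.ι)
      ⟨by simp⟩).flip h1

end Groth.Agent.VarKleiman
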