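import Groth.Agent.FibDim.RelDim
import Groth.Agent.FibDim.Semicont
import Groth.Agent.DimFormula.Fibre
import Groth.Agent.DimFormula.Codim

/-!
# Fibre dimension at a point against fibre dimensions at the generic points
-/

set_option autoImplicit false
set_option linter.style.haveILetI false
set_option maxHeartbeats 800000

universe u

open CategoryTheory CategoryTheory.Limits AlgebraicGeometry TopologicalSpace

namespace Groth.Agent.VarKleiman

open Groth.Agent

theorem exists_max {α : Type u} [TopologicalSpace α] [QuasiSober α] [T0Space α] (x : α) :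
    ∃ η : α, η ⤳ x ∧ ∀ z, z ⤳ η → z = η := by
  obtain ⟨η, hη⟩ : ∃ η : α, IsGenericPoint η (irreducibleComponent x) :=
    QuasiSober.sober isIrreducible_irreducibleComponent isClosed_irreducibleComponent
  refine ⟨η, hη.specializes mem_irreducibleComponent, fun z hz => ?_⟩
  have h1 : irreducibleComponent x ⊆ closure {z} := by
    rw [← hη.def]; exact isClosed_closure.closure_subset_iff.2 (by simpa using hz.mem_closure)
  have h2 : closure {z} ⊆ irreducibleComponent x :=
    (irreducibleComponent_mem_irreducibleComponents x).2 isIrreducible_singleton.closure h1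
  exact ((hη.specializes (h2 (subset_closure rfl))).antisymm hz).eq.symm

/-- Chevalley's inequality at a point over a Noetherian local ring of the base. -/
theorem exists_max_generic_le {X Y : Scheme.{u}} (f : X ⟶ Y) [LocallyOfFiniteType f] (x : X)
    [IsNoetherianRing (Y.presheaf.stalk (f x))] :
    ∃ (η : X) (e c : ℕ), η ⤳ x ∧ (∀ t, t ⤳ η → t = η) ∧
      FlatMor.fibreDimAt f x = ((e : ℕ∞) : WithBot ℕ∞) ∧
      ringKrullDim (Y.presheaf.stalk (f x)) = (c : WithBot ℕ∞) ∧
      ∃ d : ℕ, FlatMor.fibreDimAt f η = ((d : ℕ∞) : WithBot ℕ∞) ∧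
        ((f η ≠ f x → e + 1 ≤ d + c) ∧ (f η = f x → e ≤ d)) := by
  let y := f x
  let g := Y.fromSpecStalk y
  let S := Spec (Y.presheaf.stalk y)
  haveI : IsLocallyNoetherian S := inferInstance
  let p := pullback.fst f g
  let q := pullback.snd f g
  have hcl : g (IsLocalRing.closedPoint (Y.presheaf.stalk y)) = y := Scheme.fromSpecStalk_closedPoint
  obtain ⟨x', hx', hxq⟩ := Scheme.Pullback.exists_preimage_pullback (f := f) (g := g) x
    (IsLocalRing.closedPoint (Y.presheaf.stalk y)) hcl.symm
  haveI : IsLocallyNoetherian (pullback f g) := LocallyOfFiniteType.isLocallyNoetherian q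
  obtain ⟨z, hz, hqz, hzmax, hze⟩ := FibDim.exists_fibMax_generization q x'
  obtain ⟨η', hη', hmax⟩ := exists_max z
  have hcomm : ∀ w, f (p w) = g (q w) := fun w => by
    show (p ≫ f) w = (q ≫ g) w
    rw [show p ≫ f = q ≫ g from pullback.condition]
  have hηx : η' ⤳ x' := hη'.trans hz
  have hηmax : ∀ t, t ⤳ p η' → t = p η' := fun t ht => by
    have hty : f t ⤳ y := by
      have h1 := (ht.trans (hηx.map p.continuous)).map f.continuous
      rwa [hx'] at h1
    obtain ⟨s, hs⟩ : f t ∈ Set.range g := by rw [Scheme.range_fromSpecStalk]; exact hty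
    obtain ⟨t', rfl, -⟩ := Scheme.Pullback.exists_preimage_pullback (f := f) (g := g) t s hs.symm
    rw [hmax t' (p.isEmbedding.isInducing.specializes_iff.1 ht)]
  obtain ⟨d, hd⟩ : ∃ d : ℕ, FibDim.rd q η' = d := ⟨_, rfl⟩
  have hηd : FlatMor.fibreDimAt f (p η') = ((d : ℕ∞) : WithBot ℕ∞) := by
    rw [← FibDim.fibreDimAt_baseChange (IsPullback.of_hasPullback f g) η',
      FibDim.fibreDimAt_eq_rd q (FibDim.fibMax_of_maximal q hmax)]
    exact congrArg _ (congrArg _ hd)
  refine ⟨p η', FibDim.rd q z, DimFormula.codim (q x'), hx' ▸ hηx.map p.continuous, hηmax, ?_, ?_, d, hηd,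
    fun hne => ?_, fun he => ?_⟩
  · rw [← hx', ← FibDim.fibreDimAt_baseChange (IsPullback.of_hasPullback f g) x', hze]
  · rw [← DimFormula.ringKrullDim_stalk, hxq]
    exact (ringKrullDim_eq_of_ringEquiv
      (stalkClosedPointIso (Y.presheaf.stalk y)).commRingCatIsoToRingEquiv).symm
  · have hne' : η' ≠ z := fun h => hne (by rw [h, hcomm, hqz, hxq, hcl])
    have h1 := (DimFormula.cd_formula q hη').1
    have h2 : DimFormula.cd η' z ≠ 0 := fun h => hne' ((DimFormula.cd_eq_zero_iff hη').1 h)
    have h3 := DimFormula.cd_le_codim (hη'.map q.continuous)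
    rw [hqz] at h1 h3
    omega
  · have hqe : q η' = q x' := by
      refine g.isEmbedding.injective ?_
      rw [← hcomm, he, hxq, hcl]
    rw [show z = η' from (hzmax η' hη' (hqe.trans hqz.symm)).symm, hd]

end Groth.Agent.VarKleiman
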