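import Groth.Agent.AssLib.FlatField
import Groth.Agent.FibDim.RelDim
import Groth.Agent.FibDim.BaseField
import Groth.Agent.VarKleiman.Transversal

/-!
# Local dimension over a field as fibre dimension
-/

set_option autoImplicit false
set_option linter.style.haveILetI false

universe u

open CategoryTheory CategoryTheory.Limits AlgebraicGeometry TopologicalSpace

namespace Groth.Agent.VarKleiman

/-- Over a one-point base, fibre dimension is local dimension. -/
theorem fibreDimAt_eq_localDim {k : Type u} [Field k] {X : Scheme.{u}} (p : X ⟶ Spec (CommRingCat.of k)) (x : X) :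
    FlatMor.fibreDimAt p x = FlatMor.localDim X x := by
  haveI : Subsingleton ↥(Spec (CommRingCat.of k)) := FibDim.subsingleton_spec_field k
  have hr : Set.range (p.fiberι (p x)) = Set.univ := by
    rw [Scheme.Hom.range_fiberι]; exact Set.eq_univ_of_forall fun y => Subsingleton.elim _ _
  let e : ↥(p.fiber (p x)) ≃ₜ X :=
    (p.fiberι (p x)).isEmbedding.toHomeomorph.trans ((Homeomorph.setCongr hr).trans (Homeomorph.Set.univ X))
  have h := FibDim.localDim_homeomorph e (p.asFiber x)
  rw [show e (p.asFiber x) = x from Scheme.Hom.fiberι_asFiber p x] at h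
  exact h.symm

theorem localDim_pullback {k : Type u} [Field k] {X Y : Scheme.{u}} (p : X ⟶ Spec (CommRingCat.of k))
    (q : Y ⟶ Spec (CommRingCat.of k)) [LocallyOfFiniteType p] [LocallyOfFiniteType q] (z : ↥(pullback p q)) :
    FlatMor.localDim ↥(pullback p q) z =
      FlatMor.localDim X (pullback.fst p q z) + FlatMor.localDim Y (pullback.snd p q z) := by
  haveI : Flat p := AssLib.flat_over_field p
  haveI : Flat (pullback.snd p q) := inferInstance
  rw [← fibreDimAt_eq_localDim (pullback.snd p q ≫ q), ← fibreDimAt_eq_localDim p, ← fibreDimAt_eq_localDim q,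
    flat_comp_fd (pullback.snd p q) q rfl z,
    FibDim.fibreDimAt_baseChange (IsPullback.of_hasPullback p q) z]

end Groth.Agent.VarKleiman
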